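import Cfsg.Agent.Helper2.SC3R.Defs

/-!
# S3331 BLOCK R — basic facts on `SC G x` (helper2)

(HX) `hyp_iff_exists_SC`, (NX) `conj_mem_cases`, (SYL3) `exists_sylow_eq`, (CONJ3) `conj_of_order_three`.
-/

set_option autoImplicit false

namespace Cfsg.Agent.Helper2.SC3R

open Cfsg.Agent.Helper62.SC3

universe u

variable {G : Type u} [Group G]

theorem centralizer_zpowers_eq (x : G) :
    Subgroup.centralizer (Subgroup.zpowers x : Set G) = Subgroup.centralizer ({x} : Set G) := by
  ext h
  rw [Subgroup.mem_centralizer_iff, Subgroup.mem_centralizer_iff]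
  constructor
  · intro H y hy
    rw [Set.mem_singleton_iff] at hy
    subst hy
    exact H y (Subgroup.mem_zpowers y)
  · intro H y hy
    obtain ⟨k, rfl⟩ := hy
    have h1 : Commute x h := H x (Set.mem_singleton x)
    exact (h1.zpow_left k).eq

theorem pow_two_eq_inv {x : G} (hx : orderOf x = 3) : x ^ 2 = x⁻¹ := by
  have h3 : x ^ 3 = 1 := by rw [← hx]; exact pow_orderOf_eq_one x
  rw [eq_inv_iff_mul_eq_one, ← pow_succ]
  exact h3

theorem ne_inv_of_order_three {x : G} (hx : orderOf x = 3) : x ≠ x⁻¹ := by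
  intro h
  have h2 : x ^ 2 = 1 := by rw [pow_two]; nth_rewrite 1 [h]; exact inv_mul_cancel x
  have := orderOf_dvd_of_pow_eq_one h2
  rw [hx] at this
  omega

theorem ne_one_of_order_three {x : G} (hx : orderOf x = 3) : x ≠ 1 := by
  intro h
  rw [h, orderOf_one] at hx
  omega

theorem mem_zpowers_cases {x y : G} (hx : orderOf x = 3) (hy : y ∈ Subgroup.zpowers x) :
    y = 1 ∨ y = x ∨ y = x⁻¹ := by
  obtain ⟨k, rfl⟩ := hy
  change x ^ k = 1 ∨ x ^ k = x ∨ x ^ k = x⁻¹
  rw [← zpow_mod_orderOf, hx]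
  push_cast
  have h0 : 0 ≤ k % 3 := Int.emod_nonneg k (by norm_num)
  have h3 : k % 3 < 3 := Int.emod_lt_of_pos k (by norm_num)
  obtain h | h | h : k % 3 = 0 ∨ k % 3 = 1 ∨ k % 3 = 2 := by omega
  · left; rw [h]; simp
  · right; left; rw [h]; simp
  · right; right; rw [h]
    have : x ^ (2 : ℤ) = x ^ 2 := by norm_cast
    rw [this, pow_two_eq_inv hx]

theorem SC.mem_zpowers_of_commute {x g : G} (hx : SC G x) (hg : g * x = x * g) :
    g ∈ Subgroup.zpowers x := by
  rw [← hx.2, Subgroup.mem_centralizer_iff]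
  intro y hy
  rw [Set.mem_singleton_iff] at hy
  subst hy
  exact hg.symm

/-- (HX) -/
theorem hyp_iff_exists_SC [Finite G] : Hyp G ↔ ∃ x : G, SC G x := by
  constructor
  · rintro ⟨X, hX3, hXC⟩
    have : Fact (Nat.Prime 3) := ⟨Nat.prime_three⟩
    have : IsCyclic X := isCyclic_of_prime_card hX3
    obtain ⟨g, hg⟩ := IsCyclic.exists_generator (α := X)
    have hord : orderOf g = 3 := by
      rw [orderOf_eq_card_of_forall_mem_zpowers hg, hX3]
    have hX : X = Subgroup.zpowers (g : G) := by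
      ext y
      constructor
      · intro hy
        obtain ⟨k, hk⟩ := hg ⟨y, hy⟩
        refine ⟨k, ?_⟩
        have := congrArg Subtype.val hk
        simpa using this
      · rintro ⟨k, rfl⟩
        exact X.zpow_mem g.2 k
    refine ⟨(g : G), ?_, ?_⟩
    · rw [Subgroup.orderOf_coe]; exact hord
    · rw [← centralizer_zpowers_eq, ← hX, hXC]
  · rintro ⟨x, hx3, hxC⟩
    refine ⟨Subgroup.zpowers x, ?_, ?_⟩
    · rw [Nat.card_zpowers, hx3]
    · rw [centralizer_zpowers_eq, hxC]

/-- (NX) -/
theorem conj_mem_cases {x g : G} (hx : SC G x) (hg : g * x * g⁻¹ ∈ Subgroup.zpowers x) :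
    g ∈ Subgroup.zpowers x ∨ (g * x * g⁻¹ = x⁻¹ ∧ orderOf g = 2) := by
  have hx3 := hx.1
  rcases mem_zpowers_cases hx3 hg with h | h | h
  · exfalso
    have : x = 1 := by
      have h1 : g * x = g := by
        have := congrArg (· * g) h
        simpa using this
      exact mul_eq_left.mp h1 |> fun h => h
    exact ne_one_of_order_three hx3 this
  · left
    apply hx.mem_zpowers_of_commute
    have := congrArg (· * g) h
    simpa using this
  · right
    refine ⟨h, ?_⟩
    -- g^2 centralizes x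
    have h2 : g ^ 2 * x = x * g ^ 2 := by
      have e1 : g * x = x⁻¹ * g := by
        have := congrArg (· * g) h
        simpa using this
      have e2 : g * x⁻¹ = x * g := by
        have : g * x⁻¹ * g⁻¹ = x := by
          have := congrArg (·⁻¹) h
          simpa [mul_assoc] using this
        have := congrArg (· * g) this
        simpa using this
      calc g ^ 2 * x = g * (g * x) := by rw [pow_two, mul_assoc]
        _ = g * (x⁻¹ * g) := by rw [e1]
        _ = (g * x⁻¹) * g := by rw [mul_assoc]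
        _ = x * g * g := by rw [e2]
        _ = x * g ^ 2 := by rw [pow_two, mul_assoc]
    have h2m : g ^ 2 ∈ Subgroup.zpowers x := hx.mem_zpowers_of_commute h2
    -- conjugating g^2 by g
    have hinv : ∀ y ∈ Subgroup.zpowers x, g * y * g⁻¹ = y⁻¹ := by
      rintro y ⟨k, rfl⟩
      have : g * x ^ k * g⁻¹ = (g * x * g⁻¹) ^ k := by
        simpa using (map_zpow (MulAut.conj g) x k)
      rw [this, h, inv_zpow]
    have h4 : g ^ 2 = (g ^ 2)⁻¹ := by
      have := hinv _ h2m
      rw [← this]
      group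
    have h22 : (g ^ 2) ^ 2 = 1 := by
      rw [pow_two]; nth_rewrite 1 [h4]; exact inv_mul_cancel _
    have h23 : (g ^ 2) ^ 3 = 1 := by
      rcases mem_zpowers_cases hx3 h2m with e | e | e
      · rw [e, one_pow]
      · rw [e, ← hx3, pow_orderOf_eq_one]
      · rw [e, inv_pow, ← hx3, pow_orderOf_eq_one, inv_one]
    have hg2 : g ^ 2 = 1 := by
      have : (g ^ 2) ^ 3 = (g ^ 2) ^ 2 * g ^ 2 := by rw [← pow_succ]
      rw [this, h22, one_mul] at h23
      exact h23
    have hg1 : g ≠ 1 := by
      intro e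
      rw [e] at h
      simp at h
      exact ne_inv_of_order_three hx3 h
    exact orderOf_eq_prime hg2 hg1

/-- (SYL3) -/
theorem exists_sylow_eq [Finite G] {x : G} (hx : SC G x) :
    ∃ P : Sylow 3 G, (P : Subgroup G) = Subgroup.zpowers x := by
  have : Fact (Nat.Prime 3) := ⟨Nat.prime_three⟩
  have hx3 := hx.1
  have hXp : IsPGroup 3 (Subgroup.zpowers x) :=
    IsPGroup.of_card (n := 1) (by rw [Nat.card_zpowers, hx3, pow_one])
  obtain ⟨Q, hQ⟩ := hXp.exists_le_sylow
  refine ⟨Q, le_antisymm ?_ hQ⟩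
  have hxQ : x ∈ (Q : Subgroup G) := hQ (Subgroup.mem_zpowers x)
  have : Nontrivial (Q : Subgroup G) := ⟨⟨⟨x, hxQ⟩, 1, fun h =>
    ne_one_of_order_three hx3 (congrArg Subtype.val h)⟩⟩
  have hlt := Q.2.bot_lt_center
  obtain ⟨z, hz, hz1⟩ : ∃ z ∈ Subgroup.center (Q : Subgroup G), z ≠ 1 := by
    rcases Subgroup.bot_or_exists_ne_one (Subgroup.center (Q : Subgroup G)) with h | h
    · exact absurd h hlt.ne'
    · exact h
  -- z is central in Q, z ≠ 1
  have hzc : ∀ q : (Q : Subgroup G), q * z = z * q := fun q =>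
    (Subgroup.mem_center_iff.mp hz q)
  have hzx : (z : G) * x = x * (z : G) := by
    have := hzc ⟨x, hxQ⟩
    have := congrArg Subtype.val this
    simpa using this.symm
  have hzm : (z : G) ∈ Subgroup.zpowers x := hx.mem_zpowers_of_commute hzx
  have hzne : (z : G) ≠ 1 := fun h => hz1 (Subtype.ext h)
  have hxcent : ∀ q ∈ (Q : Subgroup G), q * x = x * q := by
    intro q hq
    have hqz : q * (z : G) = (z : G) * q := by
      have := congrArg Subtype.val (hzc ⟨q, hq⟩)
      simpa using this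
    rcases mem_zpowers_cases hx3 hzm with e | e | e
    · exact absurd e hzne
    · rw [e] at hqz; exact hqz
    · rw [e] at hqz
      have : x * q = q * x := by
        have := congrArg (fun w => x * w * x) hqz
        simpa [mul_assoc] using this
      exact this.symm
  intro q hq
  exact hx.mem_zpowers_of_commute (hxcent q hq)

/-- (CONJ3) -/
theorem conj_of_order_three [Finite G] {x z : G} (hx : SC G x) (hz : orderOf z = 3) :
    ∃ g : G, g * x * g⁻¹ = z ∨ g * x * g⁻¹ = z⁻¹ := by
  have : Fact (Nat.Prime 3) := ⟨Nat.prime_three⟩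
  obtain ⟨P, hP⟩ := exists_sylow_eq hx
  have hZp : IsPGroup 3 (Subgroup.zpowers z) :=
    IsPGroup.of_card (n := 1) (by rw [Nat.card_zpowers, hz, pow_one])
  obtain ⟨Q, hQ⟩ := hZp.exists_le_sylow
  obtain ⟨g, hg⟩ := MulAction.exists_smul_eq G P Q
  have hzQ : z ∈ (Q : Subgroup G) := hQ (Subgroup.mem_zpowers z)
  rw [← hg, Sylow.coe_subgroup_smul, Subgroup.mem_pointwise_smul_iff_inv_smul_mem] at hzQ
  rw [hP] at hzQ
  have hconj : (MulAut.conj g)⁻¹ • z = g⁻¹ * z * g := by
    simp [MulAut.smul_def]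
  rw [hconj] at hzQ
  have hz1 : z ≠ 1 := ne_one_of_order_three hz
  refine ⟨g, ?_⟩
  rcases mem_zpowers_cases hx.1 hzQ with e | e | e
  · exfalso
    apply hz1
    have := congrArg (fun w => g * w * g⁻¹) e
    simpa [mul_assoc] using this
  · left
    rw [← e]; group
  · right
    have : x = g⁻¹ * z⁻¹ * g := by
      have := congrArg (·⁻¹) e
      simpa [mul_assoc] using this.symm
    rw [this]; group

end Cfsg.Agent.Helper2.SC3R
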