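import Cfsg.Agent.Helper62.SC3.Defs

/-!
# S3331 BLOCK R (reduction to the simple case) — shared definition (helper2)

`SC G x`: `x` has order 3 and `C_G(x) = ⟨x⟩`.
-/

set_option autoImplicit false

namespace Cfsg.Agent.Helper2.SC3R

universe u

/-- `x` has order 3 and is self-centralizing. -/
def SC (G : Type u) [Group G] (x : G) : Prop :=
  orderOf x = 3 ∧ Subgroup.centralizer ({x} : Set G) = Subgroup.zpowers x

end Cfsg.Agent.Helper2.SC3R
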