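import Cfsg.Agent.Helper2.SC3R.Defs

/-!
# S3331 BLOCK R — explicit invariant subgroups in `PSL(2,7)` (helper2; backup for (L27V)/(L27W))
-/

set_option autoImplicit false

namespace Cfsg.Agent.Helper2.SC3R

abbrev SL27 := Matrix.SpecialLinearGroup (Fin 2) (ZMod 7)
abbrev L27 := Matrix.ProjectiveSpecialLinearGroup (Fin 2) (ZMod 7)

def mA : SL27 := ⟨!![0,1;6,0], by decide⟩
def mB : SL27 := ⟨!![2,3;3,5], by decide⟩
def mH : SL27 := ⟨!![2,0;1,4], by decide⟩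
def mU : SL27 := ⟨!![1,0;1,1], by decide⟩
def mN : SL27 := ⟨!![6,0;0,6], by decide⟩

/-- the projection `SL₂(7) → PSL₂(7)` -/
def prj : SL27 →* L27 := QuotientGroup.mk' (Subgroup.center SL27)

theorem prj_ne_one {g k : SL27} (h : g * k ≠ k * g) : prj g ≠ 1 := by
  intro h1
  have hk : g ∈ (QuotientGroup.mk' (Subgroup.center SL27)).ker := h1
  rw [QuotientGroup.ker_mk'] at hk
  exact h ((Subgroup.mem_center_iff.mp hk k).symm)

theorem mH_pow : mH ^ 3 = 1 := by decide +kernel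
theorem mH_mU_ne : mH * mU ≠ mU * mH := by decide +kernel
theorem mA_mU_ne : mA * mU ≠ mU * mA := by decide +kernel

theorem orderOf_prj_mH : orderOf (prj mH) = 3 := by
  have : Fact (Nat.Prime 3) := ⟨Nat.prime_three⟩
  refine orderOf_eq_prime ?_ (prj_ne_one mH_mU_ne)
  rw [← map_pow, mH_pow, map_one]

def Q8set : Finset SL27 := {1, mN, mA, mA * mN, mB, mB * mN, mA * mB, mA * mB * mN}

theorem Q8_mul : ∀ a ∈ Q8set, ∀ b ∈ Q8set, a * b ∈ Q8set := by decide +kernel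
theorem Q8_inv : ∀ a ∈ Q8set, a⁻¹ ∈ Q8set := by decide +kernel
theorem Q8_pow : ∀ a ∈ Q8set, a ^ 2 ^ 2 = 1 := by decide +kernel
theorem Q8_conj : ∀ a ∈ Q8set, mH * a * mH⁻¹ ∈ Q8set := by decide +kernel
theorem Q8_one : (1 : SL27) ∈ Q8set := by decide +kernel
theorem Q8_mA : mA ∈ Q8set := by decide +kernel

def Q8 : Subgroup SL27 where
  carrier := {g | g ∈ Q8set}
  mul_mem' := fun {a b} ha hb => Q8_mul a ha b hb
  one_mem' := Q8_one
  inv_mem' := fun {a} ha => Q8_inv a ha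

/-- (L27V), weak form: a nontrivial 2-subgroup normalized by an element of order 3 -/
theorem L27_invariant_two :
    ∃ (z : Matrix.ProjectiveSpecialLinearGroup (Fin 2) (ZMod 7))
      (V : Subgroup (Matrix.ProjectiveSpecialLinearGroup (Fin 2) (ZMod 7))),
      orderOf z = 3 ∧ IsPGroup 2 V ∧ V ≠ ⊥ ∧ ∀ v ∈ V, z * v * z⁻¹ ∈ V := by
  refine ⟨prj mH, Q8.map prj, orderOf_prj_mH, ?_, ?_, ?_⟩
  · have hQ : IsPGroup 2 Q8 := by
      intro g
      refine ⟨2, Subtype.ext ?_⟩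
      have := Q8_pow g.1 g.2
      simpa using this
    exact hQ.map prj
  · intro h
    have hm : prj mA ∈ Q8.map prj := Subgroup.mem_map_of_mem prj Q8_mA
    rw [h, Subgroup.mem_bot] at hm
    exact prj_ne_one mA_mU_ne hm
  · rintro v ⟨q, hq, rfl⟩
    refine ⟨mH * q * mH⁻¹, Q8_conj q hq, ?_⟩
    rw [map_mul, map_mul, map_inv]

theorem mU_pow : mU ^ 7 = 1 := by decide +kernel
theorem mH_mU : mH * mU * mH⁻¹ = mU ^ 2 := by decide +kernel

theorem orderOf_prj_mU : orderOf (prj mU) = 7 := by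
  have : Fact (Nat.Prime 7) := ⟨by norm_num⟩
  refine orderOf_eq_prime ?_ (prj_ne_one (k := mH) (fun h => mH_mU_ne h.symm))
  rw [← map_pow, mU_pow, map_one]

/-- (L27W) -/
theorem L27_invariant_seven :
    ∃ (z : Matrix.ProjectiveSpecialLinearGroup (Fin 2) (ZMod 7))
      (W : Subgroup (Matrix.ProjectiveSpecialLinearGroup (Fin 2) (ZMod 7))),
      orderOf z = 3 ∧ Nat.card W = 7 ∧ ∀ w ∈ W, z * w * z⁻¹ ∈ W := by
  refine ⟨prj mH, Subgroup.zpowers (prj mU), orderOf_prj_mH, ?_, ?_⟩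
  · rw [Nat.card_zpowers, orderOf_prj_mU]
  · rintro w ⟨k, rfl⟩
    have h1 : prj mH * prj mU * (prj mH)⁻¹ = prj mU ^ 2 := by
      rw [← map_inv, ← map_mul, ← map_mul, mH_mU, map_pow]
    have h2 : prj mH * prj mU ^ k * (prj mH)⁻¹ = (prj mH * prj mU * (prj mH)⁻¹) ^ k := by
      simpa using (map_zpow (MulAut.conj (prj mH)) (prj mU) k)
    change prj mH * prj mU ^ k * (prj mH)⁻¹ ∈ _
    rw [h2, h1]
    exact Subgroup.zpow_mem _ (Subgroup.pow_mem _ (Subgroup.mem_zpowers _) 2) k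

end Cfsg.Agent.Helper2.SC3R
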