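import Cfsg.Agent.Helper2.SC3R.Basic
import Cfsg.Agent.S3050
import Cfsg.Agent.S0494
import Cfsg.Agent.S0495
import Cfsg.Agent.Helper5.PSL2Simple
import Cfsg.Agent.Helper50.SC3R_A5Y
import Cfsg.Agent.Helper50.SC3R_CT
import Cfsg.Agent.Helper61.SC3R_TRANSP
import Cfsg.Agent.Helper66.SC3R_ORD6
import Cfsg.Agent.Helper66.SC3R_S3
import Cfsg.Agent.Helper67.SC3R_A5SL
import Cfsg.Agent.Helper68.SC3R_NIL
import Cfsg.Agent.Helper68.SC3R_MINN
import Cfsg.Agent.Helper80.SC3R_BURN
import Cfsg.Agent.Helper80.SC3R_QUO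
import Cfsg.Agent.Helper2.SC3R.L27

/-!
# S3331 BLOCK R (helper2): reduction to the simple case — assembly

`Cfsg.Agent.Helper2.SC3R.reduction`: if `G` has a self-centralizing subgroup of order 3, S3331 holds
for all smaller groups, and simple groups with a `Setup` have order 60 or 168, then `Concl G`.
Leaves by helper50, helper61, helper66, helper67, helper68, helper80 (farm #15653).
-/

set_option autoImplicit false

namespace Cfsg.Agent.Helper2.SC3R

open Cfsg.Agent.Helper62.SC3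

universe u v

variable {G : Type u} [Group G]


/-! ## Quotient bookkeeping -/

/-- third isomorphism theorem in `comap` form -/
theorem comap_quot_equiv (K : Subgroup G) [K.Normal] (Nb : Subgroup (G ⧸ K)) [Nb.Normal]
    [(Nb.comap (QuotientGroup.mk' K)).Normal] :
    Nonempty (G ⧸ (Nb.comap (QuotientGroup.mk' K)) ≃* (G ⧸ K) ⧸ Nb) := by
  let φ : G →* (G ⧸ K) ⧸ Nb := (QuotientGroup.mk' Nb).comp (QuotientGroup.mk' K)
  have hφ : Function.Surjective φ :=
    (QuotientGroup.mk'_surjective Nb).comp (QuotientGroup.mk'_surjective K)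
  have hker : φ.ker = Nb.comap (QuotientGroup.mk' K) := by
    rw [← MonoidHom.comap_ker, QuotientGroup.ker_mk']
  exact ⟨(QuotientGroup.quotientMulEquivOfEq hker.symm).trans
    (QuotientGroup.quotientKerEquivOfSurjective φ hφ)⟩

theorem card_comap_mk [Finite G] (K : Subgroup G) [K.Normal] (Nb : Subgroup (G ⧸ K)) :
    Nat.card (Nb.comap (QuotientGroup.mk' K)) = Nat.card K * Nat.card Nb := by
  have h1 : (Nb.comap (QuotientGroup.mk' K)).index = Nb.index :=
    Subgroup.index_comap_of_surjective Nb (QuotientGroup.mk'_surjective K)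
  have h2 := (Nb.comap (QuotientGroup.mk' K)).card_mul_index
  have h3 := Nb.card_mul_index
  have h4 := K.card_eq_card_quotient_mul_card_subgroup
  have hpos : 0 < Nb.index := Nat.pos_of_ne_zero Nb.index_ne_zero_of_finite
  rw [h1] at h2
  have : Nat.card (Nb.comap (QuotientGroup.mk' K)) * Nb.index
      = (Nat.card K * Nat.card Nb) * Nb.index := by
    rw [h2, h4, ← h3]; ring
  exact Nat.eq_of_mul_eq_mul_right hpos this

/-! ## Pull-backs -/

theorem SC.fpf {x : G} (hx : SC G x) {q : G} {n : ℕ} (hn : n.Coprime 3) (hq : q ^ n = 1)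
    (hc : x * q * x⁻¹ = q) : q = 1 := by
  have hcomm : q * x = x * q := by
    have := congrArg (· * x) hc
    simpa using this.symm
  have hm := hx.mem_zpowers_of_commute hcomm
  have h3 : q ^ 3 = 1 := by
    rcases mem_zpowers_cases hx.1 hm with e | e | e
    · rw [e, one_pow]
    · rw [e, ← hx.1, pow_orderOf_eq_one]
    · rw [e, inv_pow, ← hx.1, pow_orderOf_eq_one, inv_one]
  have h1 : orderOf q ∣ n := orderOf_dvd_of_pow_eq_one hq
  have h2 : orderOf q ∣ 3 := orderOf_dvd_of_pow_eq_one h3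
  have : orderOf q = 1 := Nat.eq_one_of_dvd_coprimes hn h1 h2
  exact orderOf_eq_one_iff.mp this

/-- every normal `3'`-subgroup is nilpotent -/
theorem nilpotent_of_normal [Finite G] {x : G} (hx : SC G x) (N : Subgroup G) [hN : N.Normal]
    (hN3 : (Nat.card N).Coprime 3) : Group.IsNilpotent N :=
  Cfsg.Agent.Helper68.SC3R.nilpotent_of_invariant hx N hN3 (fun p hp => hN.conj_mem p hp x)

/-- (PULL1) -/
theorem typeI_of_quotient [Finite G] {x : G} (hx : SC G x) (K : Subgroup G) [K.Normal]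
    (hK3 : (Nat.card K).Coprime 3) (h : TypeI (G ⧸ K)) : TypeI G := by
  obtain ⟨Nb, hNb, -, hco, hq⟩ := h
  have hNn : (Nb.comap (QuotientGroup.mk' K)).Normal := hNb.comap _
  have hN3 : (Nat.card (Nb.comap (QuotientGroup.mk' K))).Coprime 3 := by
    rw [card_comap_mk]; exact Nat.Coprime.mul_left hK3 hco
  obtain ⟨e⟩ := comap_quot_equiv K Nb
  refine ⟨Nb.comap (QuotientGroup.mk' K), hNn, nilpotent_of_normal hx _ hN3, hN3, ?_⟩
  rcases hq with h3 | hf
  · left; rw [Nat.card_congr e.toEquiv]; exact h3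
  · obtain ⟨f⟩ := hf
    right; exact ⟨e.trans f⟩

theorem eq_bot_of_no_prime [Finite G] (K : Subgroup G) (h : ∀ r : ℕ, r.Prime → ¬ r ∣ Nat.card K) :
    K = ⊥ := by
  apply Subgroup.eq_bot_of_card_eq
  by_contra hne
  obtain ⟨r, hr, hdvd⟩ := Nat.exists_prime_and_dvd hne
  exact h r hr hdvd

/-- (PULL2a) -/
theorem isPGroup_two_of_A5 [Finite G] {x : G} (hx : SC G x) (N : Subgroup G) [N.Normal]
    (hN3 : (Nat.card N).Coprime 3) (e : G ⧸ N ≃* alternatingGroup (Fin 5)) : IsPGroup 2 N := by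
  have hsimple : IsSimpleGroup (G ⧸ N) := by
    have : IsSimpleGroup (alternatingGroup (Fin 5)) := alternatingGroup.isSimpleGroup (by simp)
    exact e.isSimpleGroup
  have hq := Cfsg.Agent.Helper80.SC3R.SC_quotient hx N hN3
  obtain ⟨z, V, hz, hV4, hVz⟩ := Cfsg.Agent.Helper50.SC3R.A5_invariant_four
  obtain ⟨Y, hY4, hYx⟩ := Cfsg.Agent.Helper61.SC3R.exists_invariant_of_equiv hq e z hz V hVz
  rw [hV4] at hY4
  have hY1 : Y ≠ ⊥ := by
    intro h
    rw [h, Subgroup.card_bot] at hY4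
    omega
  have hprime : ∀ {d : ℕ}, d.Prime → d ∣ Nat.card N → d = 2 := by
    intro d hd hdvd
    by_contra h2
    have h3 : d ≠ 3 := by
      rintro rfl
      exact absurd (Nat.Coprime.eq_one_of_dvd hN3.symm hdvd) (by norm_num)
    have hodd : Nat.Coprime 2 d := (Nat.coprime_primes Nat.prime_two hd).mpr (Ne.symm h2)
    have hco : (Nat.card Y).Coprime (3 * d) := by
      rw [hY4]
      have h4 : Nat.Coprime 4 d := by
        have : (4 : ℕ) = 2 ^ 2 := by norm_num
        rw [this]; exact Nat.Coprime.pow_left 2 hodd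
      exact Nat.Coprime.mul_right (by norm_num) h4
    exact Cfsg.Agent.Helper50.SC3R.not_dvd_card_of_invariant hx (fun P hP3 hPx => Cfsg.Agent.Helper68.SC3R.nilpotent_of_invariant hx P hP3 hPx)
      N hN3 hsimple d hd Y hY1 hYx hco hdvd
  have hcard := Nat.eq_prime_pow_of_unique_prime_dvd (Nat.card_pos (α := N)).ne' hprime
  have : Fact (Nat.Prime 2) := ⟨Nat.prime_two⟩
  exact IsPGroup.of_card hcard

/-- (PULL2b) -/
theorem elementary_of_A5 [Finite G] {x : G} (hx : SC G x) (N : Subgroup G) [N.Normal]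
    (hN : IsPGroup 2 N) (e : G ⧸ N ≃* alternatingGroup (Fin 5)) :
    IsMulCommutative N ∧ ∀ n ∈ N, n ^ 2 = 1 := by
  obtain ⟨f⟩ := Cfsg.Agent.Helper67.SC3R.A5_equiv_SL2_four
  letI : Fintype (GaloisField 2 2) := Fintype.ofFinite _
  have hK : Fintype.card (GaloisField 2 2) = 2 ^ 2 := by
    rw [← Nat.card_eq_fintype_card]; exact GaloisField.card 2 2 (by norm_num)
  have hfpf : ∀ q ∈ N, x * q * x⁻¹ = q → q = 1 := by
    intro q hq hc
    obtain ⟨k, hk⟩ := hN ⟨q, hq⟩
    have hk' : q ^ (2 ^ k) = 1 := by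
      have := congrArg Subtype.val hk
      simpa using this
    exact hx.fpf (Nat.Coprime.pow_left k (by norm_num)) hk' hc
  exact (Cfsg.Agent.S3050.result N hN 2 le_rfl (GaloisField 2 2) hK (e.trans f) x hx.1 hfpf).1

/-- (PULL2) -/
theorem typeII_of_quotient [Finite G] {x : G} (hx : SC G x) (K : Subgroup G) [K.Normal]
    (hK3 : (Nat.card K).Coprime 3) (h : TypeII (G ⧸ K)) : TypeII G := by
  obtain ⟨Nb, hNb, -, hexp, ⟨f⟩⟩ := h
  have hNn : (Nb.comap (QuotientGroup.mk' K)).Normal := hNb.comap _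
  have : Fact (Nat.Prime 2) := ⟨Nat.prime_two⟩
  have hNb2 : IsPGroup 2 Nb := by
    intro g
    refine ⟨1, ?_⟩
    apply Subtype.ext
    have := hexp g.1 g.2
    simpa using this
  obtain ⟨k, hk⟩ := IsPGroup.iff_card.mp hNb2
  have hN3 : (Nat.card (Nb.comap (QuotientGroup.mk' K))).Coprime 3 := by
    rw [card_comap_mk, hk]
    exact Nat.Coprime.mul_left hK3 (Nat.Coprime.pow_left k (by norm_num))
  obtain ⟨e⟩ := comap_quot_equiv K Nb
  have hP := isPGroup_two_of_A5 hx _ hN3 (e.trans f)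
  obtain ⟨hc, he⟩ := elementary_of_A5 hx _ hP (e.trans f)
  exact ⟨Nb.comap (QuotientGroup.mk' K), hNn, hc, he, ⟨e.trans f⟩⟩

/-- (PULL3) -/
theorem not_typeIII_quotient [Finite G] {x : G} (hx : SC G x) (K : Subgroup G) [K.Normal]
    (hK3 : (Nat.card K).Coprime 3) (hK : K ≠ ⊥) : ¬ TypeIII (G ⧸ K) := by
  rintro ⟨e⟩
  have : Fact (Nat.Prime 7) := ⟨by norm_num⟩
  have hsimple : IsSimpleGroup (G ⧸ K) := by
    have : IsSimpleGroup (Matrix.ProjectiveSpecialLinearGroup (Fin 2) (ZMod 7)) :=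
      Cfsg.Agent.Helper5.isSimpleGroup_PSL2_of_card (by rw [ZMod.card]; norm_num)
    exact e.isSimpleGroup
  have hq := Cfsg.Agent.Helper80.SC3R.SC_quotient hx K hK3
  obtain ⟨z, V, hz, hV2, hV1, hVz⟩ := L27_invariant_two
  obtain ⟨Y4, hY4, hY4x⟩ := Cfsg.Agent.Helper61.SC3R.exists_invariant_of_equiv hq e z hz V hVz
  have hfin : Finite (Matrix.ProjectiveSpecialLinearGroup (Fin 2) (ZMod 7)) :=
    Finite.of_equiv _ e.toEquiv
  have : Fact (Nat.Prime 2) := ⟨Nat.prime_two⟩
  obtain ⟨k, hk⟩ := IsPGroup.iff_card.mp hV2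
  rw [hk] at hY4
  obtain ⟨z', W, hz', hW7, hWz⟩ := L27_invariant_seven
  obtain ⟨Y7, hY7, hY7x⟩ := Cfsg.Agent.Helper61.SC3R.exists_invariant_of_equiv hq e z' hz' W hWz
  rw [hW7] at hY7
  have hY41 : Y4 ≠ ⊥ := by
    intro h
    rw [h, Subgroup.card_bot] at hY4
    apply hV1
    apply Subgroup.eq_bot_of_card_eq
    rw [hk, ← hY4]
  have hY71 : Y7 ≠ ⊥ := by
    intro h
    rw [h, Subgroup.card_bot] at hY7
    omega
  apply hK
  apply eq_bot_of_no_prime
  intro d hd hdvd
  have h3 : d ≠ 3 := by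
    rintro rfl
    exact absurd (Nat.Coprime.eq_one_of_dvd hK3.symm hdvd) (by norm_num)
  have hnil := fun P hP3 hPx => Cfsg.Agent.Helper68.SC3R.nilpotent_of_invariant hx P hP3 hPx
  by_cases h2 : d = 2
  · subst h2
    exact Cfsg.Agent.Helper50.SC3R.not_dvd_card_of_invariant hx hnil K hK3 hsimple 2 hd Y7 hY71 hY7x
      (by rw [hY7]; norm_num) hdvd
  · have hodd : Nat.Coprime 2 d := (Nat.coprime_primes Nat.prime_two hd).mpr (Ne.symm h2)
    have hco : (Nat.card Y4).Coprime (3 * d) := by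
      rw [hY4]
      exact Nat.Coprime.mul_right (Nat.Coprime.pow_left k (by norm_num))
        (Nat.Coprime.pow_left k hodd)
    exact Cfsg.Agent.Helper50.SC3R.not_dvd_card_of_invariant hx hnil K hK3 hsimple d hd Y4 hY41 hY4x hco hdvd

/-! ## Top -/

theorem typeI_of_card_three [Finite G] (h3 : Nat.card G = 3) : TypeI G := by
  refine ⟨⊥, inferInstance, inferInstance, by rw [Subgroup.card_bot]; norm_num, Or.inl ?_⟩
  rw [Nat.card_congr (QuotientGroup.quotientBot (G := G)).toEquiv, h3]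

theorem typeI_of_equiv_perm (e : G ≃* Equiv.Perm (Fin 3)) : TypeI G := by
  refine ⟨⊥, inferInstance, inferInstance, by rw [Subgroup.card_bot]; norm_num, Or.inr ?_⟩
  exact ⟨(QuotientGroup.quotientBot (G := G)).trans e⟩

theorem typeII_of_equiv_A5 (e : G ≃* alternatingGroup (Fin 5)) : TypeII G := by
  refine ⟨⊥, inferInstance, ⟨⟨fun a b => Subsingleton.elim _ _⟩⟩, ?_,
    ⟨(QuotientGroup.quotientBot (G := G)).trans e⟩⟩
  intro n hn
  rw [Subgroup.mem_bot.mp hn, one_pow]

/-- (TOP) BLOCK R of S3331: reduction to the simple case. -/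
theorem reduction {G : Type u} [Group G] [Finite G] (hG : Hyp G) (ih : IH.{u} (Nat.card G))
    (hs : ∀ [IsSimpleGroup G] (S : Setup G), Nat.card G = 60 ∨ Nat.card G = 168) : Concl G := by
  obtain ⟨x, hx⟩ := hyp_iff_exists_SC.mp hG
  by_cases htriv : ∀ K : Subgroup G, K.Normal → (Nat.card K).Coprime 3 → K = ⊥
  · by_cases hinv : ∃ t : G, t * x * t⁻¹ = x⁻¹
    · obtain ⟨t, ht⟩ := hinv
      have ht2 : orderOf t = 2 := by
        have hm : t * x * t⁻¹ ∈ Subgroup.zpowers x := by
          rw [ht]; exact inv_mem (Subgroup.mem_zpowers x)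
        rcases conj_mem_cases hx hm with h | h
        · exfalso
          obtain ⟨k, rfl⟩ := h
          have hc : x ^ k * x * (x ^ k)⁻¹ = x := by
            rw [← zpow_add_one, add_comm, zpow_add, zpow_one, mul_assoc, mul_inv_cancel, mul_one]
          change x ^ k * x * (x ^ k)⁻¹ = x⁻¹ at ht
          rw [hc] at ht
          exact ne_inv_of_order_three hx.1 ht
        · exact h.2
      by_cases hsimp : IsSimpleGroup G
      · rcases hs ⟨x, t, hx.1, hx.2, ht2, ht⟩ with h60 | h168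
        · obtain ⟨e⟩ := Cfsg.Agent.S0494.result h60
          exact Or.inr (Or.inl (typeII_of_equiv_A5 e))
        · have : Fact (Nat.Prime 7) := ⟨by norm_num⟩
          exact Or.inr (Or.inr (Cfsg.Agent.S0495.result h168 (F := ZMod 7) (ZMod.card 7)))
      · have hnt : Nontrivial G := ⟨⟨x, 1, ne_one_of_order_three hx.1⟩⟩
        have hex : ∃ M : Subgroup G, M.Normal ∧ M ≠ ⊥ ∧ M ≠ ⊤ := by
          by_contra hne
          push_neg at hne
          exact hsimp ⟨fun M hM => or_iff_not_imp_left.mpr (hne M hM)⟩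
        obtain ⟨M, hMn, hMb, hMt⟩ := hex
        rcases Cfsg.Agent.Helper68.SC3R.top_or_normal hx htriv M hMb with h | h
        · exact absurd h hMt
        · left
          rcases Cfsg.Agent.Helper66.SC3R.card_of_normal hx h with h3 | h6
          · exact typeI_of_card_three h3
          · obtain ⟨e⟩ := Cfsg.Agent.Helper66.SC3R.equiv_perm_of_card_six hx h6
            exact typeI_of_equiv_perm e
    · push_neg at hinv
      obtain ⟨L, hLn, hL3, hcard⟩ := Cfsg.Agent.Helper80.SC3R.normal_complement_of_no_inverter hx hinv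
      have hL := htriv L hLn hL3
      rw [hL, Subgroup.card_bot, mul_one] at hcard
      exact Or.inl (typeI_of_card_three hcard)
  · push_neg at htriv
    obtain ⟨K, hKn, hK3, hKb⟩ := htriv
    have hlt : Nat.card (G ⧸ K) < Nat.card G := by
      have h1 := K.card_eq_card_quotient_mul_card_subgroup
      have h2 : 1 < Nat.card K := (Subgroup.one_lt_card_iff_ne_bot K).mpr hKb
      have h3 : 0 < Nat.card (G ⧸ K) := Nat.card_pos
      rw [h1]
      nlinarith
    have hyp : Hyp (G ⧸ K) := hyp_iff_exists_SC.mpr ⟨_, Cfsg.Agent.Helper80.SC3R.SC_quotient hx K hK3⟩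
    rcases ih (G ⧸ K) hlt hyp with h1 | h2 | h3
    · exact Or.inl (typeI_of_quotient hx K hK3 h1)
    · exact Or.inr (Or.inl (typeII_of_quotient hx K hK3 h2))
    · exact absurd h3 (not_typeIII_quotient hx K hK3 hKb)

end Cfsg.Agent.Helper2.SC3R
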